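import Cfsg.Agent.LinearTwoGroup.Rank

/-!
# The generator bound for 2-groups acting faithfully on an abelian group of odd prime power order
-/

namespace CfsgLib.LinearTwoGroup

universe u

variable {M : Type u} [CommGroup M] [Finite M]

theorem finite_mulAut' (A : Type*) [Group A] [Finite A] : Finite (MulAut A) :=
  Finite.of_injective (fun e : MulAut A => (e : A → A)) (fun _ _ h => MulEquiv.ext (congrFun h))

theorem card_mulAut_of_card_three {A : Type*} [Group A] [Finite A] (h : Nat.card A = 3) :
    Nat.card (MulAut A) = 2 := by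
  have : Fact (Nat.Prime 3) := ⟨Nat.prime_three⟩
  have : IsCyclic A := isCyclic_of_prime_card h
  rw [Nat.card_congr (IsCyclic.mulAutMulEquiv (G := A)).toEquiv, h, Nat.card_units, Nat.card_zmod]

/-- A group of order nine: irreducible 2-groups have bound four. -/
theorem card_le_four_mul (hM : Nat.card M = 9) {P : Subgroup (MulAut M)}
    (hP : IsPGroup 2 P) (hirr : Irred P) : Nat.card P ≤ 4 * Nat.card (sq P) := by
  classical
  have := finite_mulAut (M := M)
  have hodd : Odd (Nat.card M) := by rw [hM]; decide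
  have hnt : Nontrivial M := hirr.1
  obtain ⟨v, hv⟩ := exists_ne (1 : M)
  by_contra hcon
  push Not at hcon
  have hvv : v ≠ v⁻¹ := fun e => hv (eq_one_of_eq_inv hodd e)
  -- proper invariant subgroups have order at most three
  have hsmall : ∀ W : Subgroup M, W ≠ ⊤ → Nat.card W ≤ 3 := by
    intro W hW
    have hd : Nat.card W ∣ 9 := hM ▸ W.card_subgroup_dvd_card
    have hne : Nat.card W ≠ 9 := fun e => hW (Subgroup.eq_top_of_card_eq W (e.trans hM.symm))
    have := Nat.le_of_dvd (by norm_num) hd
    interval_cases hc : Nat.card W <;> omega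
  -- the orbit of `v`
  have horb : (MulAction.orbit P v).ncard ≤ 8 := by
    have hsub : MulAction.orbit P v ⊆ Set.univ \ {1} := by
      rintro _ ⟨g, rfl⟩
      refine ⟨trivial, fun h => hv ?_⟩
      exact (g : MulAut M).injective ((show (g : MulAut M) v = 1 from h).trans (map_one _).symm)
    refine (Set.ncard_le_ncard hsub (Set.toFinite _)).trans ?_
    rw [Set.ncard_sdiff_singleton_of_mem (Set.mem_univ _), Set.ncard_univ, hM]
  set S := MulAction.stabilizer P v with hSdef
  -- the stabiliser acts faithfully on the quotient of order three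
  set Wv := Subgroup.zpowers v with hWv
  let P' : Subgroup (MulAut M) := S.map P.subtype
  have hP' : IsPGroup 2 P' := (hP.to_subgroup S).map _
  have hfixv : ∀ g ∈ P', g v = v := by
    rintro _ ⟨s, hs, rfl⟩
    exact hs
  have hinv : Inv P' Wv := by
    intro g hg x hx
    obtain ⟨i, rfl⟩ := Subgroup.mem_zpowers_iff.1 hx
    rw [map_zpow, hfixv g hg]
    exact Subgroup.zpow_mem _ (Subgroup.mem_zpowers v) i
  have hWtop : Wv ≠ ⊤ := by
    intro e
    -- then `M` is cyclic and its unique subgroup of order three is invariant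
    obtain ⟨W, hW1, hW2, hW3⟩ : ∃ W : Subgroup M, Inv P W ∧ W ≠ ⊥ ∧ W ≠ ⊤ := by
      refine ⟨(powMonoidHom 3 : M →* M).ker, ?_, ?_, ?_⟩
      · intro g _ x hx
        simp only [MonoidHom.mem_ker, powMonoidHom_apply] at hx ⊢
        rw [← map_pow, hx, map_one]
      · intro hb
        have hv9 : orderOf v = 9 := by rw [← Nat.card_zpowers, ← hWv, e, Subgroup.card_top, hM]
        have : v ^ 3 ∈ (powMonoidHom 3 : M →* M).ker := by
          simp only [MonoidHom.mem_ker, powMonoidHom_apply, ← pow_mul]
          rw [show 3 * 3 = orderOf v by rw [hv9], pow_orderOf_eq_one]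
        rw [hb, Subgroup.mem_bot, ← orderOf_dvd_iff_pow_eq_one, hv9] at this
        omega
      · intro ht
        have hv9 : orderOf v = 9 := by rw [← Nat.card_zpowers, ← hWv, e, Subgroup.card_top, hM]
        have : v ∈ (powMonoidHom 3 : M →* M).ker := ht ▸ Subgroup.mem_top v
        simp only [MonoidHom.mem_ker, powMonoidHom_apply] at this
        rw [← orderOf_dvd_iff_pow_eq_one, hv9] at this
        omega
    exact (hirr.2 W hW1).elim hW2 hW3
  have hWc : Nat.card Wv = 3 := by
    have h1 := hsmall Wv hWtop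
    have hd : Nat.card Wv ∣ 9 := hM ▸ Wv.card_subgroup_dvd_card
    have h2 : 1 < Nat.card Wv := by
      rw [Subgroup.one_lt_card_iff_ne_bot, hWv, Ne, Subgroup.zpowers_eq_bot]
      exact hv
    interval_cases hc : Nat.card Wv <;> omega
  have hqc : Nat.card (M ⧸ Wv) = 3 := by
    have := Subgroup.card_eq_card_quotient_mul_card_subgroup Wv
    rw [hWc, hM] at this
    omega
  have hScard : Nat.card S ≤ 2 := by
    have hres : ∀ g, restrictHom P' Wv hinv g = 1 := by
      intro g
      refine MulEquiv.ext fun x => Subtype.ext ?_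
      change (g : MulAut M) x = x
      obtain ⟨i, hi⟩ := Subgroup.mem_zpowers_iff.1 x.2
      rw [← hi, map_zpow, hfixv g g.2]
    have hinj : Function.Injective (quotHom P' Wv hinv) := by
      rw [injective_iff_map_eq_one]
      exact fun g hg => eq_one_of_trivial hodd hP' hinv g (hres g) hg
    have hle := Nat.card_le_card_of_injective _ hinj
    rw [card_mulAut_of_card_three hqc] at hle
    rwa [Subgroup.card_map_of_injective (Subgroup.subtype_injective _)] at hle
  have horbit : (MulAction.orbit P v).ncard * Nat.card S = Nat.card P := by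
    rw [← MulAction.index_stabilizer, mul_comm, Subgroup.card_mul_index]
  have hPle : Nat.card P ≤ 16 := by
    rw [← horbit]; exact (Nat.mul_le_mul horb hScard).trans le_rfl
  -- an involution acting centrally inverts everything
  have hcentral : ∀ z : MulAut M, z ≠ 1 → z * z = 1 → (∀ g ∈ P, g * z = z * g) → ∀ x, z x = x⁻¹ :=
    fun z => center_involution_eq_inv hodd hirr
  obtain ⟨j, hj⟩ := IsPGroup.iff_card.1 hP
  have hsqle := sq_le P
  obtain ⟨i, hi⟩ := IsPGroup.iff_card.1 (hP.to_le hsqle)
  have hpos : 1 ≤ Nat.card (sq P) := Nat.card_pos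
  by_cases hs1 : Nat.card (sq P) = 1
  · -- elementary abelian: at most one involution
    have hbot : sq P = ⊥ := Subgroup.eq_bot_of_card_eq _ hs1
    have hinvol : ∀ g ∈ P, g * g = 1 := fun g hg => by
      have := pow_two_mem_sq hg
      rwa [hbot, Subgroup.mem_bot, pow_two] at this
    have hcomm : ∀ g ∈ P, ∀ h ∈ P, g * h = h * g := fun g hg h hh => by
      have e1 : g⁻¹ = g := inv_eq_of_mul_eq_one_right (hinvol g hg)
      have e2 : h⁻¹ = h := inv_eq_of_mul_eq_one_right (hinvol h hh)
      calc g * h = (g * h)⁻¹ := (inv_eq_of_mul_eq_one_right (hinvol _ (mul_mem hg hh))).symm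
        _ = h * g := by rw [mul_inv_rev, e1, e2]
    have hle : Nat.card P ≤ 2 := by
      refine le_trans (Nat.card_le_card_of_injective
        (fun g : P => decide ((g : MulAut M) = 1)) ?_) (le_of_eq (by simp))
      intro g h he
      simp only [decide_eq_decide] at he
      by_cases hg : (g : MulAut M) = 1
      · exact Subtype.ext (hg.trans (he.1 hg).symm)
      · have hh : (h : MulAut M) ≠ 1 := fun e => hg (he.2 e)
        refine Subtype.ext (MulEquiv.ext fun x => ?_)
        rw [hcentral _ hg (hinvol _ g.2) (fun k hk => hcomm k hk g g.2),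
          hcentral _ hh (hinvol _ h.2) (fun k hk => hcomm k hk h h.2)]
    omega
  -- now `|P| = 16`, `|P²| = 2`
  have hi1 : 1 ≤ i := by
    by_contra hi0
    apply hs1
    rw [hi, show i = 0 by omega, pow_zero]
  have hij : i + 3 ≤ j := by
    by_contra hlt
    have := Nat.pow_le_pow_right (show 1 ≤ 2 by norm_num) (show j ≤ i + 2 by omega)
    rw [hj, hi] at hcon
    rw [pow_add] at this
    norm_num at this hcon
    omega
  have hj4 : j ≤ 4 := by
    by_contra hlt
    have := Nat.pow_le_pow_right (show 1 ≤ 2 by norm_num) (show 5 ≤ j by omega)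
    rw [hj] at hPle
    norm_num at this
    omega
  obtain rfl : j = 4 := by omega
  obtain rfl : i = 1 := by omega
  rw [hj] at horbit
  have hS2 : Nat.card S = 2 := by
    norm_num at horbit
    rcases Nat.lt_or_ge (Nat.card S) 2 with h | h
    · interval_cases hc : Nat.card S <;> omega
    · omega
  have ho8 : (MulAction.orbit P v).ncard = 8 := by rw [hS2] at horbit; norm_num at horbit; omega
  -- `P²` is central of order two
  rw [pow_one] at hi
  obtain ⟨⟨s, hsS⟩, hs1'⟩ : ∃ s : S, s ≠ 1 := by
    have : Nontrivial S := Finite.one_lt_card_iff_nontrivial.1 (by omega)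
    exact exists_ne 1
  have hsv : (s : MulAut M) v = v := hsS
  have hsne : (s : MulAut M) ≠ 1 := fun e => hs1' (Subtype.ext (Subtype.ext e))
  have hss : (s : MulAut M) * s = 1 := by
    have h2 : (⟨s, hsS⟩ : S) ^ 2 = 1 := by rw [← hS2]; exact pow_card_eq_one'
    have := congrArg (fun x : S => ((x : P) : MulAut M)) h2
    simpa [pow_two] using this
  obtain ⟨z₀, hz₀1, huniq⟩ : ∃ z : MulAut M, z ≠ 1 ∧ ∀ w ∈ sq P, w = 1 ∨ w = z := by
    have : Nontrivial (sq P) := Finite.one_lt_card_iff_nontrivial.1 (by omega)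
    obtain ⟨z, hz⟩ := exists_ne (1 : sq P)
    refine ⟨z, fun e => hz (Subtype.ext e), fun w hw => ?_⟩
    by_contra hno
    push Not at hno
    obtain ⟨a, b, hab, huniv⟩ := Nat.card_eq_two_iff.1 hi
    have hmem : ∀ y : sq P, y = a ∨ y = b := fun y => by
      have : y ∈ ({a, b} : Set (sq P)) := huniv ▸ Set.mem_univ y
      simpa using this
    have hw' : (⟨w, hw⟩ : sq P) ≠ 1 := fun e => hno.1 (congrArg Subtype.val e)
    have hwz : (⟨w, hw⟩ : sq P) ≠ z := fun e => hno.2 (congrArg Subtype.val e)
    rcases hmem ⟨w, hw⟩ with h1 | h1 <;> rcases hmem z with h2 | h2 <;>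
      rcases hmem 1 with h3 | h3 <;> simp_all
  obtain ⟨hz₀P, hz₀2, hz₀c⟩ : z₀ ∈ sq P ∧ z₀ * z₀ = 1 ∧ ∀ g ∈ P, g * z₀ = z₀ * g := by
    have hzmem : z₀ ∈ sq P := by
      by_contra hzn
      have : sq P = ⊥ := (Subgroup.eq_bot_iff_forall _).2 fun w hw =>
        (huniq w hw).resolve_right fun e => hzn (e ▸ hw)
      exact hs1 (by rw [this, Subgroup.card_bot])
    refine ⟨hzmem, ?_, fun g hg => ?_⟩
    · rcases huniq _ (mul_mem hzmem hzmem) with h | h
      · exact h
      · exact absurd (mul_eq_left.1 h) hz₀1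
    · have hn : g * z₀ * g⁻¹ ∈ sq P := by
        have hmem : g * z₀ * g⁻¹ ∈ (sq P).map (MulAut.conj g).toMonoidHom := ⟨z₀, hzmem, rfl⟩
        rw [map_sq] at hmem
        refine sq_mono ?_ hmem
        rintro _ ⟨y, hy, rfl⟩
        exact mul_mem (mul_mem hg hy) (inv_mem hg)
      rcases huniq _ hn with h | h
      · exfalso
        apply hz₀1
        rw [mul_inv_eq_one] at h
        exact mul_eq_left.1 h
      · exact mul_inv_eq_iff_eq_mul.1 h
  have hzinv : ∀ x, z₀ x = x⁻¹ := hcentral z₀ hz₀1 hz₀2 hz₀c
  have hsP : (s : MulAut M) ∈ P := s.2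
  -- conjugates of `s`
  have hconj : ∀ g ∈ P, g * s * g⁻¹ = s ∨ g * s * g⁻¹ = z₀ * s := by
    intro g hg
    have hmem : g * s * g⁻¹ * (s : MulAut M)⁻¹ ∈ sq P := by
      have e : g * s * g⁻¹ * (s : MulAut M)⁻¹
          = g ^ 2 * (g⁻¹ * s) ^ 2 * ((s : MulAut M)⁻¹) ^ 2 := by
        simp only [pow_two]; group
      rw [e]
      exact mul_mem (mul_mem (pow_two_mem_sq hg) (pow_two_mem_sq (mul_mem (inv_mem hg) hsP)))
        (pow_two_mem_sq (inv_mem hsP))
    rcases huniq _ hmem with h | h
    · exact Or.inl (mul_inv_eq_one.1 h)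
    · exact Or.inr (mul_inv_eq_iff_eq_mul.1 h)
  -- the orbit lies in two subgroups of order three
  set F := fixSub (s : MulAut M) with hF
  set F' := antiSub (s : MulAut M) with hF'
  have hFc : Nat.card F ≤ 3 := hsmall _ fun e => hsne (MulEquiv.ext fun x => by
    have : x ∈ F := e ▸ Subgroup.mem_top x
    exact this)
  have hF'c : Nat.card F' ≤ 3 := by
    refine hsmall _ fun e => hv (eq_one_of_eq_inv hodd ?_)
    have : v ∈ F' := e ▸ Subgroup.mem_top v
    exact hsv.symm.trans this
  have hsub : MulAction.orbit P v ⊆ ((F : Set M) \ {1}) ∪ ((F' : Set M) \ {1}) := by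
    rintro _ ⟨g, rfl⟩
    have hgv : (g : MulAut M) v ≠ 1 := fun h =>
      hv ((g : MulAut M).injective (h.trans (map_one _).symm))
    have hfix : ((g : MulAut M) * s * (g : MulAut M)⁻¹) ((g : MulAut M) v) = (g : MulAut M) v := by
      rw [← MulAut.mul_apply, inv_mul_cancel_right, MulAut.mul_apply, hsv]
    rcases hconj g g.2 with h | h <;> rw [h] at hfix
    · exact Or.inl ⟨hfix, hgv⟩
    · refine Or.inr ⟨?_, hgv⟩
      rw [MulAut.mul_apply, hzinv, inv_eq_iff_eq_inv] at hfix
      exact hfix
  have hbd : ∀ W : Subgroup M, Nat.card W ≤ 3 → ((W : Set M) \ {1}).ncard ≤ 2 := by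
    intro W hW
    rw [Set.ncard_sdiff_singleton_of_mem (one_mem W), ← Nat.card_coe_set_eq]
    change Nat.card W - 1 ≤ 2
    omega
  have := (Set.ncard_le_ncard hsub (Set.toFinite _)).trans (Set.ncard_union_le _ _)
  have := hbd F hFc
  have := hbd F' hF'c
  omega

/-- The rank bound, for all faithful actions and for irreducible ones. -/
theorem main {q : ℕ} (hq : q.Prime) (hq2 : q ≠ 2) : ∀ (n : ℕ) (M : Type u) [CommGroup M] [Finite M],
    Nat.card M = q ^ n → ∀ P : Subgroup (MulAut M), IsPGroup 2 P →
      Bnd (2 ^ T q n) P ∧ (Irred P → Bnd (2 ^ I q n) P) := by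
  intro n
  induction n using Nat.strong_induction_on with
  | _ n ih => ?_
  intro M _ _ hM P hP
  classical
  have := finite_mulAut (M := M)
  have := Fact.mk hq
  have hodd : Odd (Nat.card M) := by rw [hM]; exact (hq.odd_of_ne_two hq2).pow
  -- an invariant subgroup gives the general bound
  have hred : ∀ (P' : Subgroup (MulAut M)), IsPGroup 2 P' → ∀ W : Subgroup M, Inv P' W → W ≠ ⊥ →
      W ≠ ⊤ → ∃ a b, 1 ≤ a ∧ 1 ≤ b ∧ a + b = n ∧ Bnd (2 ^ (T q a + T q b)) P' := by
    intro P' hP' W hW hW0 hW1
    obtain ⟨a, -, ha⟩ := (Nat.dvd_prime_pow hq).1 (hM ▸ W.card_subgroup_dvd_card)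
    have hprod := Subgroup.card_eq_card_quotient_mul_card_subgroup W
    obtain ⟨b, -, hb⟩ := (Nat.dvd_prime_pow hq).1 (hM ▸ W.card_quotient_dvd_card)
    rw [hM, ha, hb, ← pow_add] at hprod
    have hn : n = b + a := Nat.pow_right_injective hq.two_le hprod
    have ha1 : 1 ≤ a := by
      by_contra h0
      refine hW0 (Subgroup.eq_bot_of_card_eq W ?_)
      rw [ha, show a = 0 by omega, pow_zero]
    have hb1 : 1 ≤ b := by
      by_contra h0
      refine hW1 (Subgroup.eq_top_of_card_eq W ?_)
      rw [ha, hM, hn, show b = 0 by omega, zero_add]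
    refine ⟨a, b, ha1, hb1, by omega, ?_⟩
    rw [pow_add]
    exact bnd_of_inv hodd hP' hW
      ((ih a (by omega) W ha _ (hP'.of_surjective _ (restrictHom P' W hW).rangeRestrict_surjective)).1)
      ((ih b (by omega) (M ⧸ W) hb _ (hP'.of_surjective _ (quotHom P' W hW).rangeRestrict_surjective)).1)
  suffices hirr : Irred P → Bnd (2 ^ I q n) P by
    refine ⟨?_, hirr⟩
    by_cases h : Irred P
    · exact (hirr h).mono (Nat.pow_le_pow_right two_pos I_le_T)
    rcases subsingleton_or_nontrivial M with hs | hnt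
    · have : Subsingleton (MulAut M) := ⟨fun e f => MulEquiv.ext fun x => Subsingleton.elim _ _⟩
      refine bnd_of_card_le ?_
      rw [Nat.card_unique]
      exact Nat.one_le_two_pow
    obtain ⟨W, hW, hW0, hW1⟩ : ∃ W : Subgroup M, Inv P W ∧ W ≠ ⊥ ∧ W ≠ ⊤ := by
      by_contra hno
      push Not at hno
      exact h ⟨hnt, fun W hW => or_iff_not_imp_left.2 fun h0 => hno W hW h0⟩
    obtain ⟨a, b, ha, hb, hab, hB⟩ := hred P hP W hW hW0 hW1
    exact hB.mono (Nat.pow_le_pow_right two_pos (hab ▸ T_add_le ha hb))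
  intro hirr
  have hnt : Nontrivial M := hirr.1
  have hn1 : 1 ≤ n := by
    by_contra h0
    have := Finite.one_lt_card (α := M)
    rw [hM, show n = 0 by omega, pow_zero] at this
    omega
  by_cases hn : n = 1
  · subst hn
    have hcyc : IsCyclic M := isCyclic_of_prime_card (hM.trans (pow_one q))
    have hM' : Nat.card M = q := hM.trans (pow_one q)
    have : IsCyclic (ZMod (Nat.card M))ˣ := by rw [hM']; infer_instance
    have : IsCyclic (MulAut M) :=
      isCyclic_of_surjective (IsCyclic.mulAutMulEquiv (G := M)).symm.toMonoidHom (MulEquiv.surjective _)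
    have hI : I q 1 = 1 := by unfold I; split_ifs <;> omega
    rw [hI]
    exact bnd_cyclic
  by_cases hbase : q = 3 ∧ n = 2
  · obtain ⟨rfl, rfl⟩ := hbase
    intro H
    have hH' : IsPGroup 2 (H.map P.subtype) := (hP.to_subgroup H).map _
    have key : Nat.card (H.map P.subtype) ≤ 4 * Nat.card (sq (H.map P.subtype)) := by
      set P' := H.map P.subtype
      by_cases h : Irred P'
      · exact card_le_four_mul (hM.trans (by norm_num)) hH' h
      · obtain ⟨W, hW, hW0, hW1⟩ : ∃ W : Subgroup M, Inv P' W ∧ W ≠ ⊥ ∧ W ≠ ⊤ := by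
          by_contra hno
          push Not at hno
          exact h ⟨hnt, fun W hW => or_iff_not_imp_left.2 fun h0 => hno W hW h0⟩
        obtain ⟨a, b, ha, hb, hab, hB⟩ := hred P' hH' W hW hW0 hW1
        obtain ⟨rfl, rfl⟩ : a = 1 ∧ b = 1 := by omega
        have hb' := hB ⊤
        have e1 : Nat.card (⊤ : Subgroup P') = Nat.card P' := Subgroup.card_top
        have e2 : Nat.card (sq (⊤ : Subgroup P')) = Nat.card (sq P') := by
          rw [← Subgroup.card_map_of_injective (K := sq (⊤ : Subgroup P')) (f := P'.subtype)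
            (Subgroup.subtype_injective _), map_sq, ← MonoidHom.range_eq_map, Subgroup.range_subtype]
        rw [e1, e2] at hb'
        exact hb'.trans (le_of_eq (by norm_num [T]))
    rw [← map_sq, Subgroup.card_map_of_injective (Subgroup.subtype_injective _),
      Subgroup.card_map_of_injective (Subgroup.subtype_injective _)] at key
    exact key.trans (le_of_eq (by norm_num [I]))
  have hn2 : 2 ≤ n := by omega
  -- a central involution, necessarily inversion
  have : Nontrivial P := by
    by_contra hP1
    rw [not_nontrivial_iff_subsingleton] at hP1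
    obtain ⟨x, hx⟩ := exists_prime_orderOf_dvd_card' (G := M) q (by rw [hM]; exact dvd_pow_self q (by omega))
    have hW : Inv P (Subgroup.zpowers x) := fun g hg y hy => by
      have : (⟨g, hg⟩ : P) = 1 := Subsingleton.elim _ _
      rw [show g = 1 from congrArg Subtype.val this, MulAut.one_apply]
      exact hy
    rcases hirr.2 _ hW with h | h
    · rw [Subgroup.zpowers_eq_bot] at h
      simp [h] at hx
      exact hq.one_lt.ne' hx.symm
    · have := congrArg (fun W : Subgroup M => Nat.card W) h
      simp only [Nat.card_zpowers, Subgroup.card_top, hx, hM] at this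
      have := Nat.pow_right_injective hq.two_le (show q ^ 1 = q ^ n by rw [pow_one]; exact this)
      omega
  have hnil : Group.IsNilpotent P := hP.isNilpotent
  have hcn := hP.center_nontrivial
  obtain ⟨⟨z, hzc⟩, hz1, hz2⟩ : ∃ z : Subgroup.center P, z ≠ 1 ∧ z ^ 2 = 1 := by
    obtain ⟨k, hk⟩ := IsPGroup.iff_card.1 (hP.to_subgroup (Subgroup.center P))
    have hk0 : k ≠ 0 := by
      rintro rfl
      have := Finite.one_lt_card (α := Subgroup.center P)
      omega
    obtain ⟨z, hz⟩ := exists_prime_orderOf_dvd_card' (G := Subgroup.center P) 2 (hk ▸ dvd_pow_self 2 hk0)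
    refine ⟨z, fun e => by simp [e] at hz, ?_⟩
    rw [← hz]; exact pow_orderOf_eq_one z
  have hzinv : ∀ x, (z : MulAut M) x = x⁻¹ := by
    refine center_involution_eq_inv hodd hirr ?_ ?_ (fun g hg => ?_)
    · intro e
      exact hz1 (Subtype.ext (Subtype.ext e))
    · have := congrArg (fun w : Subgroup.center P => ((w : P) : MulAut M)) hz2
      simpa [pow_two] using this
    · exact congrArg Subtype.val (Subgroup.mem_center_iff.1 hzc ⟨g, hg⟩)
  have huniq : ∀ w : P, w ∈ Subgroup.center P → w * w = 1 → w = 1 ∨ w = z := by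
    intro w hwc hw
    refine or_iff_not_imp_left.2 fun h1 => ?_
    refine Subtype.ext (MulEquiv.ext fun x => ?_)
    rw [hzinv, center_involution_eq_inv hodd hirr (fun e => h1 (Subtype.ext e))
      (congrArg Subtype.val hw) (fun g hg => congrArg Subtype.val (Subgroup.mem_center_iff.1 hwc ⟨g, hg⟩))]
  by_cases hE : ∃ E : Subgroup P, E.Normal ∧ IsMulCommutative E ∧
      2 < Nat.card {x : E // x ^ 2 = 1}
  · -- an imprimitive group
    obtain ⟨E, hEn, hEc, hE2⟩ := hE
    let E2 : Subgroup P :=
      { carrier := {x | x ∈ E ∧ x ^ 2 = 1}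
        one_mem' := ⟨one_mem E, one_pow 2⟩
        mul_mem' := fun {x y} hx hy => ⟨mul_mem hx.1 hy.1, by
          have hc : (⟨x, hx.1⟩ : E) * ⟨y, hy.1⟩ = ⟨y, hy.1⟩ * ⟨x, hx.1⟩ := hEc.is_comm.comm _ _
          rw [(show Commute x y from congrArg Subtype.val hc).mul_pow, hx.2, hy.2, one_mul]⟩
        inv_mem' := fun {x} hx => ⟨inv_mem hx.1, by rw [inv_pow, hx.2, inv_one]⟩ }
    have hE2n : E2.Normal := ⟨fun x hx g => ⟨hEn.conj_mem x hx.1 g, by rw [conj_pow, hx.2]; group⟩⟩
    set Z0 := Subgroup.zpowers z with hZ0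
    have hZn : Z0.Normal := ⟨fun x hx g => by
      have : x ∈ Subgroup.center P := Subgroup.zpowers_le.2 hzc hx
      rw [Subgroup.mem_center_iff.1 this g, mul_inv_cancel_right]; exact hx⟩
    have hzz : z * z = 1 := by
      have := congrArg Subtype.val hz2
      simpa [pow_two] using this
    have hzne : z ≠ 1 := fun e => hz1 (Subtype.ext e)
    have hZ0mem : ∀ x ∈ Z0, x = 1 ∨ x = z := by
      intro x hx
      obtain ⟨i, rfl⟩ := Subgroup.mem_zpowers_iff.1 hx
      rcases Int.even_or_odd i with ⟨j, rfl⟩ | ⟨j, rfl⟩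
      · left; rw [← two_mul, zpow_mul, zpow_two, hzz, one_zpow]
      · right; rw [zpow_add, zpow_mul, zpow_two, hzz, one_zpow, one_mul, zpow_one]
    have hnle : ¬ E2 ≤ Z0 := by
      intro hle
      have h1 : Nat.card {x : E // x ^ 2 = 1} ≤ Nat.card Z0 :=
        Nat.card_le_card_of_injective
          (fun x => (⟨(x.1 : P), hle ⟨x.1.2, congrArg Subtype.val x.2⟩⟩ : Z0))
          (fun x y h => Subtype.ext (Subtype.ext (congrArg Subtype.val h :)))
      have h2 : Nat.card Z0 = 2 := by
        rw [hZ0, Nat.card_zpowers]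
        exact orderOf_eq_prime (by rw [pow_two]; exact hzz) hzne
      omega
    obtain ⟨a, haE, haZ, hac⟩ : ∃ a ∈ E2, a ∉ Z0 ∧ ∀ g : P, a⁻¹ * (g * a * g⁻¹) ∈ Z0 := by
      set π := QuotientGroup.mk' Z0
      have hmapn : (E2.map π).Normal := hE2n.map π (QuotientGroup.mk'_surjective _)
      have hne : E2.map π ≠ ⊥ := by
        rwa [Ne, Subgroup.map_eq_bot_iff, QuotientGroup.ker_mk']
      have : Group.IsNilpotent (P ⧸ Z0) := (hP.to_quotient Z0).isNilpotent
      have hmeet := CfsgLib.Solvable.inf_center_ne_bot hne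
      obtain ⟨w, hw, hw1⟩ : ∃ w ∈ E2.map π ⊓ Subgroup.center (P ⧸ Z0), w ≠ 1 := by
        by_contra! h
        exact hmeet ((Subgroup.eq_bot_iff_forall _).mpr h)
      obtain ⟨⟨a, ha, rfl⟩, hwc⟩ := hw
      refine ⟨a, ha, fun h => hw1 ((QuotientGroup.eq_one_iff a).2 h), fun g => ?_⟩
      rw [← QuotientGroup.eq]
      change π a = π (g * a * g⁻¹)
      rw [map_mul, map_mul, map_inv, Subgroup.mem_center_iff.1 hwc (π g), mul_inv_cancel_right]
    have haa : a * a = 1 := by rw [← pow_two]; exact haE.2
    have hconj : ∀ g : P, g * a * g⁻¹ = a ∨ g * a * g⁻¹ = a * z := by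
      intro g
      rcases hZ0mem _ (hac g) with h | h
      · left; rw [inv_mul_eq_one] at h; exact h.symm
      · right; exact inv_mul_eq_iff_eq_mul.1 h
    have haz : a * z ≠ a := fun e => hzne (mul_eq_left.1 e)
    set R := Subgroup.centralizer ({a} : Set P) with hR
    have hRmem : ∀ g, g ∈ R ↔ g * a * g⁻¹ = a := fun g => by
      rw [hR, Subgroup.mem_centralizer_singleton_iff]
      exact ⟨fun h => by rw [h]; group, fun h => mul_inv_eq_iff_eq_mul.1 h⟩
    obtain ⟨t, ht⟩ : ∃ t : P, t ∉ R := not_forall.1 fun hall => by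
      have hcen : a ∈ Subgroup.center P := Subgroup.mem_center_iff.2 fun g =>
        Subgroup.mem_centralizer_singleton_iff.1 (hall g)
      rcases huniq a hcen haa with h | h
      · exact haZ (h ▸ one_mem _)
      · exact haZ (h ▸ Subgroup.mem_zpowers z)
    have hta : t * a * t⁻¹ = a * z := (hconj t).resolve_left fun h => ht ((hRmem t).2 h)
    have hzcomm : ∀ g : P, g * z = z * g := fun g => Subgroup.mem_center_iff.1 hzc g
    have hidx : R.index = 2 := by
      rw [Subgroup.index_eq_two_iff]
      refine ⟨t, fun b => ?_⟩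
      simp only [hRmem]
      have hbt : (b * t) * a * (b * t)⁻¹ = b * a * b⁻¹ * z := by
        calc (b * t) * a * (b * t)⁻¹ = b * (t * a * t⁻¹) * b⁻¹ := by group
          _ = b * a * (z * b⁻¹) := by rw [hta]; group
          _ = b * a * (b⁻¹ * z) := by rw [hzcomm b⁻¹]
          _ = b * a * b⁻¹ * z := by group
      rw [hbt]
      rcases hconj b with h | h
      · right
        refine ⟨h, ?_⟩
        rw [h]; exact haz
      · left
        refine ⟨by rw [h, mul_assoc, hzz, mul_one], ?_⟩
        rw [h]; exact haz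
    have hRn : R.Normal := Subgroup.normal_of_index_eq_two hidx
    have htt : t * t ∈ R := by
      rw [hRmem]
      calc t * t * a * (t * t)⁻¹ = t * (t * a * t⁻¹) * t⁻¹ := by group
        _ = t * a * (z * t⁻¹) := by rw [hta]; group
        _ = (t * a * t⁻¹) * z := by rw [← hzcomm t⁻¹]; group
        _ = a := by rw [hta, mul_assoc, hzz, mul_one]
    have hcoset : ∀ b : P, b ∈ R ∨ ∃ r ∈ R, b = t * r := by
      intro b
      by_cases hb : b ∈ R
      · exact Or.inl hb
      · exact Or.inr ⟨t⁻¹ * b,
          (Subgroup.mul_mem_iff_of_index_two hidx).2 (by simp only [inv_mem_iff]; exact iff_of_false ht hb),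
          by group⟩
    -- the two eigen subgroups
    set α := (a : MulAut M) with hα
    set F := fixSub α with hF
    set F' := antiSub α with hF'
    have hαα : α * α = 1 := congrArg Subtype.val haa
    have htF : ∀ x ∈ F, ((t : P) : MulAut M) x ∈ F' := by
      intro x hx
      have h : a * t = t * a * z := by
        have h1 : t * a = a * z * t := mul_inv_eq_iff_eq_mul.1 hta
        calc a * t = a * (z * z) * t := by rw [hzz]; group
          _ = a * z * (z * t) := by group
          _ = a * z * (t * z) := by rw [hzcomm t]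
          _ = (a * z * t) * z := by group
          _ = t * a * z := by rw [h1]
      have h' := DFunLike.congr_fun (congrArg Subtype.val h) x
      change α ((t : MulAut M) x) = (t : MulAut M) (α ((z : MulAut M) x)) at h'
      change α ((t : MulAut M) x) = ((t : MulAut M) x)⁻¹
      rw [h', hzinv, map_inv, show α x = x from hx, map_inv]
    have htF' : ∀ x ∈ F', ((t : P) : MulAut M) x ∈ F := by
      intro x hx
      have h : a * t = t * a * z := by
        have h1 : t * a = a * z * t := mul_inv_eq_iff_eq_mul.1 hta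
        calc a * t = a * (z * z) * t := by rw [hzz]; group
          _ = a * z * (z * t) := by group
          _ = a * z * (t * z) := by rw [hzcomm t]
          _ = (a * z * t) * z := by group
          _ = t * a * z := by rw [h1]
      have h' := DFunLike.congr_fun (congrArg Subtype.val h) x
      change α ((t : MulAut M) x) = (t : MulAut M) (α ((z : MulAut M) x)) at h'
      change α ((t : MulAut M) x) = (t : MulAut M) x
      rw [h', hzinv, map_inv, show α x = x⁻¹ from hx, inv_inv]
    have hcardF : Nat.card F = Nat.card F' := le_antisymm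
      (Nat.card_le_card_of_injective (fun x : F => (⟨_, htF x x.2⟩ : F'))
        (fun x y h => Subtype.ext ((t : MulAut M).injective (congrArg Subtype.val h :))))
      (Nat.card_le_card_of_injective (fun x : F' => (⟨_, htF' x x.2⟩ : F))
        (fun x y h => Subtype.ext ((t : MulAut M).injective (congrArg Subtype.val h :))))
    obtain ⟨m, -, hm⟩ := (Nat.dvd_prime_pow hq).1 (hM ▸ F.card_subgroup_dvd_card)
    have hnm : n = 2 * m := by
      have h := card_eq_fix_mul_anti hodd hαα
      rw [← hF, ← hF', ← hcardF, hM, hm, ← pow_add] at h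
      have := Nat.pow_right_injective hq.two_le h
      omega
    set R0 := R.map P.subtype with hR0
    have hR0p : IsPGroup 2 R0 := (hP.to_subgroup R).map _
    have hinvF : Inv R0 F := by
      rintro _ ⟨r, hr, rfl⟩ x hx
      have h := DFunLike.congr_fun (congrArg Subtype.val
        (Subgroup.mem_centralizer_singleton_iff.1 hr)) x
      change (r : MulAut M) (α x) = α ((r : MulAut M) x) at h
      change α ((r : MulAut M) x) = (r : MulAut M) x
      rw [← h, show α x = x from hx]
    have hinvF' : Inv R0 F' := by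
      rintro _ ⟨r, hr, rfl⟩ x hx
      have h := DFunLike.congr_fun (congrArg Subtype.val
        (Subgroup.mem_centralizer_singleton_iff.1 hr)) x
      change (r : MulAut M) (α x) = α ((r : MulAut M) x) at h
      change α ((r : MulAut M) x) = ((r : MulAut M) x)⁻¹
      rw [← h, show α x = x⁻¹ from hx, map_inv]
    -- each half is irreducible
    have hirrHalf : ∀ (A : Subgroup M) (hA : Inv R0 A), Nat.card A = q ^ m →
        Irred (restrictHom R0 A hA).range := by
      intro A hA hAc
      refine ⟨Finite.one_lt_card_iff_nontrivial.1 ?_, fun W hW => ?_⟩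
      · rw [hAc]; exact Nat.one_lt_pow (by omega) hq.one_lt
      set W0 := W.map A.subtype with hW0
      have hW0R : Inv R0 W0 := by
        rintro g hg _ ⟨w, hw, rfl⟩
        exact ⟨restrictHom R0 A hA ⟨g, hg⟩ w, hW _ ⟨⟨g, hg⟩, rfl⟩ w hw, rfl⟩
      set Wt := W0.map (t : MulAut M).toMonoidHom with hWt
      have hPinv : Inv P (W0 ⊔ Wt) := by
        intro g hg x hx
        have hmap : (W0 ⊔ Wt).map g.toMonoidHom ≤ W0 ⊔ Wt := by
          rw [Subgroup.map_sup, sup_le_iff]
          have hRW : ∀ r : P, r ∈ R → W0.map (r : MulAut M).toMonoidHom ≤ W0 := by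
            rintro r hr _ ⟨y, hy, rfl⟩
            exact hW0R _ ⟨r, hr, rfl⟩ y hy
          rcases hcoset ⟨g, hg⟩ with hgR | ⟨r, hr, hgr⟩
          · refine ⟨(hRW _ hgR).trans le_sup_left, le_sup_of_le_right ?_⟩
            rintro _ ⟨_, ⟨y, hy, rfl⟩, rfl⟩
            have hr' : t⁻¹ * (⟨g, hg⟩ : P) * t ∈ R := by
              have := hRn.conj_mem _ hgR t⁻¹
              rwa [inv_inv] at this
            refine ⟨_, hRW _ hr' ⟨y, hy, rfl⟩, ?_⟩
            change ((t : MulAut M) * ((t⁻¹ * (⟨g, hg⟩ : P) * t : P) : MulAut M)) y = g ((t : MulAut M) y)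
            rw [← MulAut.mul_apply]
            congr 1
            simp [mul_assoc]
          · have hg' : g = (t : MulAut M) * (r : MulAut M) := congrArg Subtype.val hgr
            refine ⟨le_sup_of_le_right ?_, le_sup_of_le_left ?_⟩
            · rintro _ ⟨y, hy, rfl⟩
              exact ⟨_, hRW r hr ⟨y, hy, rfl⟩, by rw [hg']; rfl⟩
            · rintro _ ⟨_, ⟨y, hy, rfl⟩, rfl⟩
              have hr' : (t * t) * (t⁻¹ * r * t) ∈ R := by
                refine mul_mem htt ?_
                have := hRn.conj_mem _ hr t⁻¹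
                rwa [inv_inv] at this
              have hh := hRW _ hr' ⟨y, hy, rfl⟩
              convert hh using 1
              change g ((t : MulAut M) y) = (((t * t) * (t⁻¹ * r * t) : P) : MulAut M) y
              rw [← MulAut.mul_apply, hg']
              congr 1
              simp [mul_assoc]
        exact hmap ⟨x, hx, rfl⟩
      rcases hirr.2 _ hPinv with hb | ht'
      · left
        have h0 : W0 = ⊥ := le_bot_iff.1 (hb ▸ le_sup_left)
        rwa [hW0, Subgroup.map_eq_bot_iff_of_injective _ (Subgroup.subtype_injective _)] at h0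
      · right
        apply Subgroup.eq_top_of_le_card
        have hc1 : Nat.card M ≤ Nat.card W0 * Nat.card Wt := by
          rw [← Nat.card_prod]
          refine Nat.card_le_card_of_surjective (fun w : W0 × Wt => (w.1 : M) * (w.2 : M)) fun x => ?_
          have hx : x ∈ W0 ⊔ Wt := ht' ▸ Subgroup.mem_top x
          obtain ⟨y, hy, w, hw, rfl⟩ := Subgroup.mem_sup.1 hx
          exact ⟨(⟨y, hy⟩, ⟨w, hw⟩), rfl⟩
        rw [hWt, Subgroup.card_map_of_injective (f := (t : MulAut M).toMonoidHom) (t : MulAut M).injective,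
          hW0, Subgroup.card_map_of_injective (Subgroup.subtype_injective _), hM, hnm,
          two_mul, pow_add, ← hAc] at hc1
        exact Nat.mul_self_le_mul_self_iff.1 hc1
    have hm' : Nat.card F' = q ^ m := hcardF ▸ hm
    have hmn : m < n := by omega
    have hbF : Bnd (2 ^ I q m) (restrictHom R0 F hinvF).range :=
      (ih m hmn F hm _ (hR0p.of_surjective _ (restrictHom R0 F hinvF).rangeRestrict_surjective)).2
        (hirrHalf F hinvF hm)
    have hbF' : Bnd (2 ^ I q m) (restrictHom R0 F' hinvF').range :=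
      (ih m hmn F' hm' _ (hR0p.of_surjective _ (restrictHom R0 F' hinvF').rangeRestrict_surjective)).2
        (hirrHalf F' hinvF' hm')
    have hbR0 : Bnd (2 ^ I q m * 2 ^ I q m) R0 := by
      refine bnd_ext _ hbF ?_
      let f : (restrictHom R0 F hinvF).ker →* (restrictHom R0 F' hinvF').range :=
        (restrictHom R0 F' hinvF').rangeRestrict.comp (restrictHom R0 F hinvF).ker.subtype
      refine bnd_of_injective f ?_ hbF'
      rw [injective_iff_map_eq_one]
      intro g hg
      refine Subtype.ext (Subtype.ext (MulEquiv.ext fun x => ?_))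
      obtain ⟨y, hy, y', hy', rfl⟩ := exists_decomp hodd hαα x
      have h1 := congrArg Subtype.val (DFunLike.congr_fun g.2 (⟨y, hy⟩ : F))
      have h2 := congrArg Subtype.val (DFunLike.congr_fun (congrArg Subtype.val hg) (⟨y', hy'⟩ : F'))
      change ((g.1 : R0) : MulAut M) y = y at h1
      change ((g.1 : R0) : MulAut M) y' = y' at h2
      change ((g.1 : R0) : MulAut M) (y * y') = y * y'
      rw [map_mul, h1, h2]
    have hbR : Bnd (2 ^ I q m * 2 ^ I q m) R :=
      bnd_of_injective (R.equivMapOfInjective P.subtype (Subgroup.subtype_injective _)).toMonoidHom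
        (MulEquiv.injective _) hbR0
    have hfin : Bnd (2 * (2 ^ I q m * 2 ^ I q m)) P := by
      refine bnd_ext (QuotientGroup.mk' R) (bnd_of_card_le ?_) ?_
      · exact (Nat.le_of_dvd Nat.card_pos (Subgroup.card_subgroup_dvd_card _)).trans
          (le_of_eq hidx)
      · rw [QuotientGroup.ker_mk']; exact hbR
    refine hfin.mono ?_
    rw [← pow_add, ← pow_succ', hnm]
    exact Nat.pow_le_pow_right two_pos (by
      have := I_step (q := q) (m := m) (by omega) (fun hh => hbase ⟨hh.1, by omega⟩)
      omega)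
  · -- all abelian normal subgroups are cyclic
    obtain ⟨A, ⟨hAn, hAc⟩, hAmax⟩ := Set.Finite.exists_maximal
      (Set.toFinite {A : Subgroup P | A.Normal ∧ IsMulCommutative A})
      ⟨⊥, inferInstance, inferInstance⟩
    have hcA : Subgroup.centralizer (A : Set P) = A :=
      CfsgLib.Solvable.centralizer_eq_of_maximal_abelian_normal fun B hB hBc hle =>
        le_antisymm (hAmax ⟨hB, hBc⟩ hle) hle
    have h2 : Nat.card {x : A // x ^ 2 = 1} ≤ 2 := not_lt.1 fun h => hE ⟨A, hAn, hAc, h⟩
    have hAp : IsPGroup 2 A := hP.to_subgroup A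
    have : IsCyclic A := isCyclic_of_card_sq_le hAp (fun a b => hAc.is_comm.comm a b) h2
    let f : P →* MulAut A := MulAut.conjNormal
    have hker : f.ker = A := by
      conv_rhs => rw [← hcA]
      ext g
      rw [MonoidHom.mem_ker, Subgroup.mem_centralizer_iff]
      constructor
      · intro h y hy
        have := congrArg Subtype.val (DFunLike.congr_fun h (⟨y, hy⟩ : A))
        change g * y * g⁻¹ = y at this
        exact (mul_inv_eq_iff_eq_mul.1 this).symm
      · intro h
        refine MulEquiv.ext fun y => Subtype.ext ?_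
        change g * (y : P) * g⁻¹ = y
        rw [← h y y.2]; group
    have hfin : Bnd (4 * 2) P := by
      have : Finite (MulAut A) := finite_mulAut' A
      refine bnd_ext f (bnd_of_injective f.range.subtype (Subgroup.subtype_injective _)
        (bnd_mulAut_cyclic hAp)) ?_
      rw [hker]
      exact bnd_cyclic
    refine hfin.mono ?_
    calc 4 * 2 = 2 ^ 3 := by norm_num
      _ ≤ 2 ^ I q n := Nat.pow_le_pow_right two_pos (three_le_I hn2 hbase)

end CfsgLib.LinearTwoGroup
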