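import Mathlib
import Cfsg.Agent.Solvable.Nilpotent
import Cfsg.Agent.Solvable.Frattini

/-!
# Numbers of generators of 2-subgroups of `GL(n, q)`, `q` odd

`Bnd B G`: every subgroup `H` of `G` has `|H : H²| ≤ B`, where `H²` is generated by the squares
(for a finite 2-group this is the Frattini subgroup).  For a 2-group `P` of automorphisms of an
abelian group of order `q ^ n` we prove `Bnd (2 ^ T q n) P`, with `T q n = 2n - 1` for `q ≥ 5` and
`T 3 n = ⌊3n/2⌋`.
-/

namespace CfsgLib.LinearTwoGroup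

universe u

section General

variable {G : Type*} [Group G] {Q : Type*} [Group Q]

/-- The subgroup generated by the squares of elements of `H`. -/
def sq (H : Subgroup G) : Subgroup G := Subgroup.closure ((fun x => x ^ 2) '' (H : Set G))

theorem pow_two_mem_sq {H : Subgroup G} {x : G} (hx : x ∈ H) : x ^ 2 ∈ sq H :=
  Subgroup.subset_closure ⟨x, hx, rfl⟩

theorem sq_le (H : Subgroup G) : sq H ≤ H := by
  rw [sq, Subgroup.closure_le]
  rintro _ ⟨x, hx, rfl⟩
  exact pow_mem hx 2

theorem sq_mono {H K : Subgroup G} (h : H ≤ K) : sq H ≤ sq K :=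
  Subgroup.closure_mono (Set.image_mono h)

theorem map_sq (f : G →* Q) (H : Subgroup G) : (sq H).map f = sq (H.map f) := by
  rw [sq, sq, MonoidHom.map_closure, Subgroup.coe_map, Set.image_image, Set.image_image]
  simp only [map_pow]

/-- Every subgroup has index at most `B` over the subgroup generated by its squares. -/
def Bnd (B : ℕ) (G : Type*) [Group G] : Prop :=
  ∀ H : Subgroup G, Nat.card H ≤ B * Nat.card (sq H)

theorem Bnd.mono {A B : ℕ} (h : Bnd A G) (hAB : A ≤ B) : Bnd B G := fun H =>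
  (h H).trans (Nat.mul_le_mul_right _ hAB)

theorem bnd_of_card_le [Finite G] {B : ℕ} (h : Nat.card G ≤ B) : Bnd B G := fun H =>
  ((Nat.le_of_dvd Nat.card_pos H.card_subgroup_dvd_card).trans h).trans
    (Nat.le_mul_of_pos_right _ Nat.card_pos)

theorem card_eq_map_mul [Finite G] (f : G →* Q) (H : Subgroup G) :
    Nat.card H = Nat.card (H.map f) * Nat.card (H ⊓ f.ker : Subgroup G) := by
  have h := Subgroup.card_mul_index (f.comp H.subtype).ker
  rw [Subgroup.index_ker, MonoidHom.range_comp, Subgroup.range_subtype] at h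
  have h2 : Nat.card (f.comp H.subtype).ker = Nat.card (H ⊓ f.ker : Subgroup G) :=
    Nat.card_congr
      { toFun := fun x => ⟨x.1.1, x.1.2, x.2⟩
        invFun := fun x => ⟨⟨x.1, x.2.1⟩, x.2.2⟩
        left_inv := fun _ => rfl
        right_inv := fun _ => rfl }
  rw [← h, h2, mul_comm]

theorem bnd_ext [Finite G] (f : G →* Q) {A B : ℕ} (hA : Bnd A f.range) (hB : Bnd B f.ker) :
    Bnd (A * B) G := by
  intro H
  rw [card_eq_map_mul f H, card_eq_map_mul f (sq H), map_sq]
  have h1 : Nat.card (H.map f) ≤ A * Nat.card (sq (H.map f)) := by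
    have h := hA ((H.map f).subgroupOf f.range)
    have hle : H.map f ≤ f.range := by
      rintro _ ⟨x, -, rfl⟩
      exact ⟨x, rfl⟩
    rw [Nat.card_congr (Subgroup.subgroupOfEquivOfLe hle).toEquiv,
      ← Subgroup.card_map_of_injective (K := sq ((H.map f).subgroupOf f.range))
        (f := f.range.subtype) (Subgroup.subtype_injective _), map_sq,
      Subgroup.map_subgroupOf_eq_of_le hle] at h
    exact h
  have h2 : Nat.card (H ⊓ f.ker : Subgroup G) ≤ B * Nat.card (sq H ⊓ f.ker : Subgroup G) := by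
    have h := hB ((H ⊓ f.ker).subgroupOf f.ker)
    rw [Nat.card_congr (Subgroup.subgroupOfEquivOfLe (inf_le_right : H ⊓ f.ker ≤ f.ker)).toEquiv,
      ← Subgroup.card_map_of_injective (K := sq ((H ⊓ f.ker).subgroupOf f.ker))
        (f := f.ker.subtype) (Subgroup.subtype_injective _), map_sq,
      Subgroup.map_subgroupOf_eq_of_le inf_le_right] at h
    refine h.trans (Nat.mul_le_mul_left _ (Subgroup.card_le_of_le ?_))
    exact le_inf (sq_mono inf_le_left) ((sq_le _).trans inf_le_right)
  calc _ ≤ (A * Nat.card (sq (H.map f))) * (B * Nat.card (sq H ⊓ f.ker : Subgroup G)) :=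
        Nat.mul_le_mul h1 h2
    _ = _ := by ring

theorem bnd_of_injective [Finite G] {B : ℕ} (f : G →* Q) (hf : Function.Injective f)
    (h : Bnd B Q) : Bnd B G := by
  intro H
  have := h (H.map f)
  rwa [← map_sq, Subgroup.card_map_of_injective hf, Subgroup.card_map_of_injective hf] at this

theorem bnd_abelian [Finite G] {B : ℕ} (hc : ∀ a b : G, Commute a b)
    (h : Nat.card {x : G // x ^ 2 = 1} ≤ B) : Bnd B G := by
  intro H
  let g : H →* G :=
    { toFun := fun x => (x : G) ^ 2
      map_one' := by simp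
      map_mul' := fun a b => by rw [Subgroup.coe_mul, (hc (a : G) (b : G)).mul_pow] }
  have h1 := Subgroup.card_mul_index g.ker
  rw [Subgroup.index_ker] at h1
  have h2 : Nat.card g.ker ≤ B := by
    refine le_trans (Nat.card_le_card_of_injective
      (fun x : g.ker => (⟨(x.1 : G), x.2⟩ : {x : G // x ^ 2 = 1})) ?_) h
    intro x y hxy
    exact Subtype.ext (Subtype.ext (congrArg (fun z : {x : G // x ^ 2 = 1} => z.1) hxy))
  have h3 : Nat.card g.range ≤ Nat.card (sq H) := by
    refine Subgroup.card_le_of_le ?_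
    rintro _ ⟨x, rfl⟩
    exact pow_two_mem_sq x.2
  rw [← h1]
  exact Nat.mul_le_mul h2 h3

theorem bnd_cyclic [Finite G] [IsCyclic G] : Bnd 2 G := by
  classical
  have := Fintype.ofFinite G
  letI : CommGroup G := IsCyclic.commGroup
  refine bnd_abelian (fun a b => Commute.all a b) ?_
  rw [Nat.card_eq_fintype_card, Fintype.card_subtype]
  exact IsCyclic.card_pow_eq_one_le zero_lt_two

/-- An abelian 2-group with at most two square roots of the identity is cyclic. -/
theorem isCyclic_of_card_sq_le [Finite G] (hG : IsPGroup 2 G) (hc : ∀ a b : G, Commute a b)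
    (h : Nat.card {x : G // x ^ 2 = 1} ≤ 2) : IsCyclic G := by
  have hB := bnd_abelian hc h ⊤
  have hΦ : sq (⊤ : Subgroup G) ≤ frattini G := by
    rw [sq, Subgroup.closure_le]
    rintro _ ⟨x, -, rfl⟩
    exact CfsgLib.Solvable.pow_mem_frattini hG x
  by_cases htop : frattini G = ⊤
  · have : (⊥ : Subgroup G) = ⊤ := frattini_nongenerating (by rw [htop]; exact sup_top_eq _)
    have : Subsingleton G := by
      constructor
      intro a b
      have ha : a ∈ (⊥ : Subgroup G) := this ▸ Subgroup.mem_top a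
      have hb : b ∈ (⊥ : Subgroup G) := this ▸ Subgroup.mem_top b
      rw [Subgroup.mem_bot.1 ha, Subgroup.mem_bot.1 hb]
    infer_instance
  obtain ⟨x, hx⟩ : ∃ x : G, x ∉ frattini G := not_forall.1 fun hall =>
    htop (eq_top_iff.2 fun y _ => hall y)
  have hlt : frattini G < Subgroup.zpowers x ⊔ frattini G :=
    lt_of_le_of_ne le_sup_right fun e => hx (e ▸ Subgroup.mem_sup_left (Subgroup.mem_zpowers x))
  have hS : Subgroup.zpowers x ⊔ frattini G = ⊤ := by
    apply Subgroup.eq_top_of_le_card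
    obtain ⟨k, hk⟩ := Subgroup.card_dvd_of_le hlt.le
    have hk2 : 2 ≤ k := by
      rcases k with _ | _ | k
      · have := Nat.card_pos (α := (Subgroup.zpowers x ⊔ frattini G : Subgroup G))
        rw [mul_zero] at hk; omega
      · exact absurd (Subgroup.eq_of_le_of_card_ge hlt.le (by rw [hk]; simp)) hlt.ne
      · omega
    have h1 := Subgroup.card_le_of_le hΦ
    rw [Subgroup.card_top] at hB
    rw [hk]
    calc Nat.card G ≤ 2 * Nat.card (sq (⊤ : Subgroup G)) := hB
      _ ≤ Nat.card (frattini G) * k := by rw [mul_comm]; exact Nat.mul_le_mul h1 hk2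
  have hx' := frattini_nongenerating hS
  exact isCyclic_iff_exists_zpowers_eq_top.2 ⟨x, hx'⟩

theorem card_sq_eq_one_units_le (k : ℕ) :
    Nat.card {u : (ZMod (2 ^ k))ˣ // u ^ 2 = 1} ≤ 4 := by
  classical
  by_cases hk : k ≤ 2
  · calc Nat.card {u : (ZMod (2 ^ k))ˣ // u ^ 2 = 1}
        ≤ Nat.card (ZMod (2 ^ k)) := Nat.card_le_card_of_injective
          (fun u => ((u.1 : (ZMod (2 ^ k))ˣ) : ZMod (2 ^ k)))
          (fun u v h => Subtype.ext (Units.ext h))
      _ = 2 ^ k := Nat.card_zmod _
      _ ≤ 2 ^ 2 := Nat.pow_le_pow_right two_pos hk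
  obtain ⟨j, rfl⟩ : ∃ j, k = j + 3 := ⟨k - 3, by omega⟩
  set N := 2 ^ (j + 1) with hN
  have hN2 : 2 ^ (j + 3) = 4 * N := by rw [hN]; ring
  let S : Finset ℕ := {1, 2 * N - 1, 2 * N + 1, 4 * N - 1}
  have hmem : ∀ u : {u : (ZMod (2 ^ (j + 3)))ˣ // u ^ 2 = 1},
      ((u.1 : (ZMod (2 ^ (j + 3)))ˣ) : ZMod (2 ^ (j + 3))).val ∈ S := by
    rintro ⟨u, hu⟩
    set x : ZMod (2 ^ (j + 3)) := (u : ZMod (2 ^ (j + 3))) with hx
    set v := x.val with hv
    have hvlt : v < 4 * N := hN2 ▸ ZMod.val_lt x
    have hsq : ((v * v : ℕ) : ZMod (2 ^ (j + 3))) = ((1 : ℕ) : ZMod (2 ^ (j + 3))) := by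
      rw [Nat.cast_mul, ZMod.natCast_zmod_val, Nat.cast_one, hx, ← Units.val_mul, ← pow_two, hu,
        Units.val_one]
    rw [ZMod.natCast_eq_natCast_iff, hN2] at hsq
    have hNpos : 0 < N := by positivity
    have hodd : v % 2 = 1 := by
      rcases Nat.mod_two_eq_zero_or_one v with h | h
      · exfalso
        have h2 : v * v % 2 = 1 % 2 := (hsq.of_dvd (dvd_mul_of_dvd_left (by norm_num) N))
        rw [Nat.mul_mod, h] at h2
        simp at h2
      · exact h
    obtain ⟨w, hw⟩ : ∃ w, v = 2 * w + 1 := ⟨v / 2, by omega⟩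
    have hd : N ∣ w * (w + 1) := by
      have h1 := (Nat.modEq_iff_dvd' (show 1 ≤ v * v by rw [hw]; nlinarith)).1 hsq.symm
      have h2 : v * v - 1 = 4 * (w * (w + 1)) := by
        rw [hw]
        have : (2 * w + 1) * (2 * w + 1) = 4 * (w * (w + 1)) + 1 := by ring
        omega
      rw [h2] at h1
      exact Nat.dvd_of_mul_dvd_mul_left (by norm_num) h1
    have hcases : N ∣ w ∨ N ∣ w + 1 := by
      rcases Nat.mod_two_eq_zero_or_one w with h | h
      · left
        refine (Nat.Coprime.pow_left (j + 1) ?_).dvd_of_dvd_mul_right hd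
        exact (Nat.prime_two.coprime_iff_not_dvd).2 (by omega)
      · right
        refine (Nat.Coprime.pow_left (j + 1) ?_).dvd_of_dvd_mul_left hd
        exact (Nat.prime_two.coprime_iff_not_dvd).2 (by omega)
    simp only [S, Finset.mem_insert, Finset.mem_singleton]
    rcases hcases with ⟨c, hc⟩ | ⟨c, hc⟩
    · have hc2 : c < 2 := by nlinarith
      interval_cases c <;> omega
    · have hc2 : c ≤ 2 := by nlinarith
      interval_cases c <;> omega
  calc Nat.card {u : (ZMod (2 ^ (j + 3)))ˣ // u ^ 2 = 1} ≤ Nat.card S :=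
        Nat.card_le_card_of_injective (fun u => (⟨_, hmem u⟩ : S)) (fun u v h =>
          Subtype.ext (Units.ext (ZMod.val_injective _ (congrArg Subtype.val h))))
    _ = S.card := Nat.card_eq_finsetCard S
    _ ≤ 4 := Finset.card_le_four

theorem bnd_mulAut_cyclic {A : Type*} [Group A] [Finite A] [IsCyclic A] (hA : IsPGroup 2 A) :
    Bnd 4 (MulAut A) := by
  obtain ⟨k, hk⟩ := IsPGroup.iff_card.1 hA
  have : Finite (MulAut A) := Finite.of_injective (fun e : MulAut A => (e : A → A))
    (fun e f h => MulEquiv.ext (congrFun h))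
  have : NeZero (Nat.card A) := ⟨Nat.card_pos.ne'⟩
  refine bnd_of_injective (IsCyclic.mulAutMulEquiv (G := A)).toMonoidHom (MulEquiv.injective _) ?_
  refine bnd_abelian (fun a b => Commute.all a b) ?_
  rw [hk]
  exact card_sq_eq_one_units_le k

end General

section Action

variable {M : Type u} [CommGroup M]

/-- `W` is invariant under `P`. -/
def Inv (P : Subgroup (MulAut M)) (W : Subgroup M) : Prop := ∀ g ∈ P, ∀ x ∈ W, g x ∈ W

/-- `P` acts irreducibly. -/
def Irred (P : Subgroup (MulAut M)) : Prop :=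
  Nontrivial M ∧ ∀ W : Subgroup M, Inv P W → W = ⊥ ∨ W = ⊤

/-- Restriction of automorphisms to an invariant subgroup. -/
def restrictHom (P : Subgroup (MulAut M)) (W : Subgroup M) (hW : Inv P W) : P →* MulAut W where
  toFun g :=
    { toFun := fun x => ⟨(g : MulAut M) (x : M), hW g g.2 x x.2⟩
      invFun := fun x => ⟨(g : MulAut M)⁻¹ (x : M), hW _ (inv_mem g.2) x x.2⟩
      left_inv := fun x => Subtype.ext (MulAut.inv_apply_self M _ _)
      right_inv := fun x => Subtype.ext (MulAut.apply_inv_self M _ _)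
      map_mul' := fun x y => Subtype.ext (map_mul (g : MulAut M) (x : M) (y : M)) }
  map_one' := rfl
  map_mul' _ _ := rfl

theorem Inv.map_eq {P : Subgroup (MulAut M)} {W : Subgroup M} (hW : Inv P W) (g : P) :
    W.map (g : MulAut M).toMonoidHom = W := by
  refine le_antisymm ?_ ?_
  · rintro _ ⟨x, hx, rfl⟩
    exact hW g g.2 x hx
  · intro x hx
    exact ⟨(g : MulAut M)⁻¹ x, hW _ (inv_mem g.2) x hx, MulAut.apply_inv_self M _ _⟩

/-- The action on the quotient by an invariant subgroup. -/
def quotHom (P : Subgroup (MulAut M)) (W : Subgroup M) (hW : Inv P W) : P →* MulAut (M ⧸ W) where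
  toFun g := QuotientGroup.congr W W (g : MulAut M) (hW.map_eq g)
  map_one' := MulEquiv.ext fun q => by induction q using QuotientGroup.induction_on; rfl
  map_mul' _ _ := MulEquiv.ext fun q => by induction q using QuotientGroup.induction_on; rfl

theorem finite_mulAut [Finite M] : Finite (MulAut M) :=
  Finite.of_injective (fun e : MulAut M => (e : M → M)) (fun _ _ h => MulEquiv.ext (congrFun h))

/-- A 2-element trivial on `W` and on `M / W` is trivial. -/
theorem eq_one_of_trivial [Finite M] (hM : Odd (Nat.card M)) {P : Subgroup (MulAut M)}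
    (hP : IsPGroup 2 P) {W : Subgroup M} (hW : Inv P W) (g : P)
    (h1 : restrictHom P W hW g = 1) (h2 : quotHom P W hW g = 1) : g = 1 := by
  obtain ⟨j, hj⟩ := hP g
  refine Subtype.ext (MulEquiv.ext fun x => ?_)
  set w := x⁻¹ * (g : MulAut M) x with hw
  have hwW : w ∈ W := by
    have h := DFunLike.congr_fun h2 (x : M ⧸ W)
    change (((g : MulAut M) x : M) : M ⧸ W) = (x : M ⧸ W) at h
    exact QuotientGroup.eq.1 h.symm
  have hgw : (g : MulAut M) w = w := by
    have h := congrArg Subtype.val (DFunLike.congr_fun h1 (⟨w, hwW⟩ : W))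
    exact h
  have hgx : (g : MulAut M) x = x * w := by rw [hw, mul_inv_cancel_left]
  have hit : ∀ i : ℕ, ((g : MulAut M) ^ i) x = x * w ^ i := by
    intro i
    induction i with
    | zero => simp
    | succ i ih =>
      rw [pow_succ', MulAut.mul_apply, ih, map_mul, map_pow, hgw, hgx, mul_assoc, ← pow_succ']
  have h3 := hit (2 ^ j)
  rw [show (g : MulAut M) ^ (2 ^ j) = 1 from congrArg Subtype.val hj, MulAut.one_apply] at h3
  have hwj : w ^ 2 ^ j = 1 := mul_eq_left.1 h3.symm
  have hw1 : w = 1 := by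
    rw [← orderOf_eq_one_iff]
    exact Nat.eq_one_of_dvd_coprimes (Nat.Coprime.pow_left j hM.coprime_two_left)
      (orderOf_dvd_iff_pow_eq_one.2 hwj) (orderOf_dvd_natCard w)
  rw [hgx, hw1, mul_one]; rfl

/-- The bound is inherited from an invariant subgroup and its quotient. -/
theorem bnd_of_inv [Finite M] (hM : Odd (Nat.card M)) {P : Subgroup (MulAut M)}
    (hP : IsPGroup 2 P) {W : Subgroup M} (hW : Inv P W) {A B : ℕ}
    (hA : Bnd A (restrictHom P W hW).range) (hB : Bnd B (quotHom P W hW).range) :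
    Bnd (A * B) P := by
  have := finite_mulAut (M := M)
  refine bnd_ext _ hA ?_
  let f : (restrictHom P W hW).ker →* (quotHom P W hW).range :=
    (quotHom P W hW).rangeRestrict.comp (restrictHom P W hW).ker.subtype
  refine bnd_of_injective f ?_ hB
  rw [injective_iff_map_eq_one]
  intro g hg
  exact Subtype.ext (eq_one_of_trivial hM hP hW g.1 g.2 (congrArg Subtype.val hg))

/-- The fixed subgroup of an automorphism. -/
def fixSub (a : MulAut M) : Subgroup M where
  carrier := {x | a x = x}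
  one_mem' := map_one a
  mul_mem' := fun {x y} hx hy => by
    simp only [Set.mem_ofPred_eq] at *
    rw [map_mul, hx, hy]
  inv_mem' := fun {x} hx => by
    simp only [Set.mem_ofPred_eq] at *
    rw [map_inv, hx]

/-- The subgroup of elements inverted by an automorphism. -/
def antiSub (a : MulAut M) : Subgroup M where
  carrier := {x | a x = x⁻¹}
  one_mem' := by simp
  mul_mem' := fun {x y} hx hy => by
    simp only [Set.mem_ofPred_eq] at *
    rw [map_mul, hx, hy, mul_inv]
  inv_mem' := fun {x} hx => by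
    simp only [Set.mem_ofPred_eq] at *
    rw [map_inv, hx]

theorem eq_one_of_eq_inv [Finite M] (hM : Odd (Nat.card M)) {x : M} (h : x = x⁻¹) : x = 1 := by
  rw [← orderOf_eq_one_iff]
  refine Nat.eq_one_of_dvd_coprimes hM.coprime_two_left ?_ (orderOf_dvd_natCard x)
  rw [orderOf_dvd_iff_pow_eq_one, pow_two]
  nth_rw 1 [h]
  exact inv_mul_cancel x

theorem exists_decomp [Finite M] (hM : Odd (Nat.card M)) {a : MulAut M} (ha : a * a = 1) (x : M) :
    ∃ f ∈ fixSub a, ∃ f' ∈ antiSub a, f * f' = x := by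
  obtain ⟨y, hy⟩ := (powCoprime (n := 2) hM.coprime_two_right).surjective x
  have hy' : y ^ 2 = x := hy
  have haa : ∀ z, a (a z) = z := fun z => by rw [← MulAut.mul_apply, ha, MulAut.one_apply]
  refine ⟨y * a y, ?_, y * (a y)⁻¹, ?_, ?_⟩
  · change a (y * a y) = y * a y
    rw [map_mul, haa, mul_comm]
  · change a (y * (a y)⁻¹) = (y * (a y)⁻¹)⁻¹
    rw [map_mul, map_inv, haa, mul_inv, inv_inv, mul_comm]
  · rw [mul_mul_mul_comm, mul_inv_cancel, mul_one, ← pow_two, hy']

theorem card_eq_fix_mul_anti [Finite M] (hM : Odd (Nat.card M)) {a : MulAut M} (ha : a * a = 1) :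
    Nat.card M = Nat.card (fixSub a) * Nat.card (antiSub a) := by
  rw [← Nat.card_prod]
  refine (Nat.card_congr (Equiv.ofBijective (fun z => (z.1 : M) * (z.2 : M)) ⟨?_, ?_⟩)).symm
  · apply Subgroup.mul_injective_of_disjoint
    rw [disjoint_iff_inf_le]
    rintro z ⟨h1, h2⟩
    exact Subgroup.mem_bot.2 (eq_one_of_eq_inv hM (h1.symm.trans h2))
  · intro x
    obtain ⟨f, hf, f', hf', e⟩ := exists_decomp hM ha x
    exact ⟨(⟨f, hf⟩, ⟨f', hf'⟩), e⟩

theorem center_involution_eq_inv [Finite M] (hM : Odd (Nat.card M))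
    {P : Subgroup (MulAut M)} (hirr : Irred P) {z : MulAut M} (hz1 : z ≠ 1) (hz2 : z * z = 1)
    (hc : ∀ g ∈ P, g * z = z * g) (x : M) : z x = x⁻¹ := by
  have hinv : Inv P (fixSub z) := fun g hg y hy => by
    change z (g y) = g y
    rw [← MulAut.mul_apply, ← hc g hg, MulAut.mul_apply, show z y = y from hy]
  have hfix : fixSub z = ⊥ := by
    refine (hirr.2 _ hinv).resolve_right fun htop => hz1 (MulEquiv.ext fun y => ?_)
    have : y ∈ fixSub z := htop ▸ Subgroup.mem_top y
    exact this
  obtain ⟨f, hf, f', hf', rfl⟩ := exists_decomp hM hz2 x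
  rw [hfix, Subgroup.mem_bot] at hf
  rw [hf, one_mul]
  exact hf'

end Action

/-- The exponent bound for an arbitrary action. -/
def T (q n : ℕ) : ℕ := if q = 3 then 3 * n / 2 else 2 * n - 1

/-- The exponent bound for an irreducible action. -/
def I (q n : ℕ) : ℕ :=
  if q = 3 then (if n = 1 then 1 else if n % 2 = 1 then 3 else 3 * n / 2 - 1) else 2 * n - 1

theorem T_add_le {q a b : ℕ} (ha : 1 ≤ a) (hb : 1 ≤ b) : T q a + T q b ≤ T q (a + b) := by
  unfold T; split_ifs <;> omega

theorem I_le_T {q n : ℕ} : I q n ≤ T q n := by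
  unfold I T; split_ifs <;> omega

theorem three_le_I {q n : ℕ} (hn : 2 ≤ n) (h : ¬(q = 3 ∧ n = 2)) : 3 ≤ I q n := by
  unfold I; split_ifs <;> omega

theorem I_step {q m : ℕ} (hm : 1 ≤ m) (h : ¬(q = 3 ∧ m = 1)) : 1 + (I q m + I q m) ≤ I q (2 * m) := by
  unfold I; split_ifs <;> omega

theorem two_pow_T_lt {q n : ℕ} (hq : q.Prime) (hq2 : q ≠ 2) (hn : 1 ≤ n) : 2 ^ T q n < q ^ n := by
  unfold T
  split_ifs with h
  · subst h
    refine lt_of_pow_lt_pow_left₀ 2 (Nat.zero_le _) ?_
    calc (2 ^ (3 * n / 2)) ^ 2 = 2 ^ (3 * n / 2 * 2) := by rw [← pow_mul]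
      _ ≤ 2 ^ (3 * n) := Nat.pow_le_pow_right two_pos (Nat.div_mul_le_self _ _)
      _ = 8 ^ n := by rw [pow_mul]; norm_num
      _ < 9 ^ n := Nat.pow_lt_pow_left (by norm_num) (by omega)
      _ = (3 ^ n) ^ 2 := by rw [← pow_mul, mul_comm, pow_mul]; norm_num
  · have h4 : 4 ≤ q := by
      have := hq.two_le
      omega
    calc 2 ^ (2 * n - 1) < 2 ^ (2 * n) := Nat.pow_lt_pow_right (by norm_num) (by omega)
      _ = 4 ^ n := by rw [pow_mul]; norm_num
      _ ≤ q ^ n := Nat.pow_le_pow_left h4 n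

end CfsgLib.LinearTwoGroup
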